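import Cfsg.Agent.ZJFail.Main
/-!
The index `|N_H(C) : C_H(C)| = p - 1` for a rational element.
-/
set_option autoImplicit false
set_option linter.all false

namespace Cfsg.Agent.ZJFail

open Cfsg

universe u

theorem relIndex_of_rat {X : Type u} [Group X] [Finite X] {p : ℕ} [hp : Fact p.Prime]
    {H : Subgroup X} {y h : X} (hy : orderOf y = p) (hh : h ∈ H) {j : ℕ} (hj : orderOf (j : ZMod p) = p - 1)
    (e : h * y * h⁻¹ = y ^ j) :
    (H ⊓ Subgroup.centralizer ((Subgroup.zpowers y : Subgroup X) : Set X)).relIndex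
      (H ⊓ Subgroup.normalizer ((Subgroup.zpowers y : Subgroup X) : Set X)) = p - 1 := by
  classical
  set C : Subgroup X := Subgroup.zpowers y with hC
  have hp1 : 1 < p := hp.out.one_lt
  have hcardC : Nat.card C = p := by rw [hC, Nat.card_zpowers, hy]
  have hhN : h ∈ Subgroup.normalizer (C : Set X) := by
    have hle : C.map (MulAut.conj h).toMonoidHom ≤ C := by
      rw [hC, MonoidHom.map_zpowers, Subgroup.zpowers_le]
      show h * y * h⁻¹ ∈ Subgroup.zpowers y
      rw [e]; exact Subgroup.npow_mem_zpowers y j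
    have heq : C.map (MulAut.conj h).toMonoidHom = C :=
      Subgroup.eq_of_le_of_card_ge hle (by
        rw [Subgroup.card_map_of_injective (MulAut.conj h).injective])
    rw [Subgroup.mem_normalizer_iff]
    intro x
    constructor
    · intro hx
      have := Subgroup.mem_map_of_mem (MulAut.conj h).toMonoidHom hx
      rw [heq] at this
      exact this
    · intro hx
      have hx' : h * x * h⁻¹ ∈ C := hx
      rw [← heq] at hx'
      obtain ⟨z, hz, hz'⟩ := hx'
      have : z = x := by
        have h1 : h * z * h⁻¹ = h * x * h⁻¹ := hz'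
        exact mul_left_cancel (mul_right_cancel h1)
      rw [← this]; exact hz
  set N : Subgroup X := H ⊓ Subgroup.normalizer (C : Set X) with hN
  let χ : ↥N →* MulAut ↥C := (Subgroup.normalizerMonoidHom C).comp (Subgroup.inclusion inf_le_right)
  have hker : χ.ker = (H ⊓ Subgroup.centralizer (C : Set X)).subgroupOf N := by
    ext n
    rw [MonoidHom.mem_ker, Subgroup.mem_subgroupOf]
    have h1 : χ n = 1 ↔ (Subgroup.inclusion (inf_le_right : N ≤ _) n) ∈ (Subgroup.normalizerMonoidHom C).ker := by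
      rw [MonoidHom.mem_ker]; rfl
    rw [h1, Subgroup.normalizerMonoidHom_ker, Subgroup.mem_subgroupOf]
    constructor
    · intro h2
      exact Subgroup.mem_inf.2 ⟨(Subgroup.mem_inf.1 n.2).1, h2⟩
    · intro h2
      exact (Subgroup.mem_inf.1 h2).2
  have hrel : (H ⊓ Subgroup.centralizer (C : Set X)).relIndex N = Nat.card χ.range := by
    rw [Subgroup.relIndex, ← hker, Subgroup.index_ker]
  rw [hrel]
  haveI : IsCyclic C := by rw [hC]; infer_instance
  have hcardAut : Nat.card (MulAut C) = p - 1 := by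
    rw [IsCyclic.card_mulAut, hcardC, Nat.totient_prime hp.out]
  have hle : Nat.card χ.range ∣ p - 1 := by
    rw [← hcardAut]; exact Subgroup.card_subgroup_dvd_card _
  refine Nat.dvd_antisymm hle ?_
  have hhNN : h ∈ N := Subgroup.mem_inf.2 ⟨hh, hhN⟩
  set g : ↥χ.range := ⟨χ ⟨h, hhNN⟩, ⟨_, rfl⟩⟩ with hg
  have hdvd : orderOf g ∣ Nat.card χ.range := orderOf_dvd_natCard g
  refine dvd_trans ?_ hdvd
  rw [← hj]
  rw [orderOf_dvd_iff_pow_eq_one]
  have hgp : g ^ orderOf g = 1 := pow_orderOf_eq_one g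
  set n := orderOf g with hn
  have h2 : (χ ⟨h, hhNN⟩) ^ n = 1 := by
    have := congrArg Subtype.val hgp
    simpa [hg] using this
  rw [← map_pow] at h2
  have h3 : h ^ n * y * (h ^ n)⁻¹ = y := by
    have h4 := congrArg (fun f : MulAut C => ((f ⟨y, Subgroup.mem_zpowers y⟩ : C) : X)) h2
    exact h4
  have h5 : ∀ k : ℕ, h ^ k * y * (h ^ k)⁻¹ = y ^ (j ^ k) := by
    intro k
    induction k with
    | zero => simp
    | succ k ih =>
      have : h ^ (k + 1) * y * (h ^ (k + 1))⁻¹ = h * (h ^ k * y * (h ^ k)⁻¹) * h⁻¹ := by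
        rw [pow_succ']; group
      rw [this, ih, ← conj_pow, e, ← pow_mul, pow_succ, mul_comm j]
  rw [h5 n] at h3
  have h6 : y ^ (j ^ n) = y ^ 1 := by rw [h3, pow_one]
  rw [pow_eq_pow_iff_modEq, hy] at h6
  have h7 := (ZMod.natCast_eq_natCast_iff _ _ _).2 h6
  rw [Nat.cast_pow, Nat.cast_one] at h7
  exact h7

end Cfsg.Agent.ZJFail
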