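import Cfsg.Agent.ZJFail.FLoc
import Cfsg.Agent.QdInv.Control
import Cfsg.Agent.QdInv.RealMain
/-!
Failure of `Z(J(S))` to control strong fusion gives a section `F(p)` of its normalizer.
-/
set_option autoImplicit false
set_option linter.all false

namespace Cfsg.Agent.ZJFail

open Cfsg Cfsg.Agent.H33 Cfsg.Agent.QdInv

universe u

/-- control in terms of subgroups -/
def Ctl {G : Type*} [Group G] (M S : Subgroup G) : Prop :=
  ∀ A ≤ S, ∀ g : G, cj g A ≤ S → ∃ m ∈ M, ∀ a ∈ A, g * a * g⁻¹ = m * a * m⁻¹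

theorem Ctl.controls {p : ℕ} [hp : Fact p.Prime] {G : Type*} [Group G] [Finite G] (S : Sylow p G)
    {Z : Subgroup G} (hZ : Z ≤ (S : Subgroup G))
    (h : Ctl (Subgroup.normalizer (Z : Set G)) (S : Subgroup G)) : ControlsStrongFusion p Z := by
  refine ⟨S, hZ, fun A hA => ⟨hA, fun g hg => ?_⟩⟩
  obtain ⟨m, hm, h1⟩ := h (Subgroup.closure A) (closure_sub_iff.2 hA) g (by
    rw [cj_closure]; exact closure_sub_iff.2 hg)
  exact ⟨m, hm, fun a ha => h1 a (Subgroup.subset_closure ha)⟩

theorem zj_le {G : Type*} [Group G] (P : Subgroup G) : centerThompsonAOf P ≤ P :=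
  inf_le_left.trans (Subgroup.map_subtype_le _)

theorem partA {p : ℕ} [hp : Fact p.Prime] (hp2 : p ≠ 2) {X : Type u} [Group X] [Finite X] (S : Sylow p X)
    (h : ¬ ControlsStrongFusion p (centerThompsonAOf (S : Subgroup X))) :
    Involves ↥(fOver (ZMod p))
      ↥(Subgroup.normalizer ((centerThompsonAOf (S : Subgroup X) : Subgroup X) : Set X)) := by
  apply FX.involves
  rcases climb (W := @ZJ.zja) (fEP hp2) charP_zja (by
    intro X _ _ S hc hst
    rw [induced_zja]
    have := ZJ.centerThompsonAOf_characteristic hp2 hc hst S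
    infer_instance) (Nat.card X) X le_rfl with h1 | h1
  · exfalso
    apply h
    apply Ctl.controls S (zj_le _)
    have h2 := CK.of_family charP_zja (isSyl_top S) h1
    rw [← induced_zja]
    intro A hA g hg
    obtain ⟨n, hn, h3⟩ := h2 A hA g trivial hg
    exact ⟨n, hn.2, h3⟩
  · have h2 := h1 S
    rw [induced_zja] at h2
    exact h2

end Cfsg.Agent.ZJFail
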