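import Cfsg.Agent.ZJFail.EVfin
import Cfsg.Agent.ZJFail.PartA
/-!
Failure of `Z(J(S))` to control strong fusion: a rational element in `Z(J(S))`.
-/
set_option autoImplicit false
set_option linter.all false

namespace Cfsg.Agent.ZJFail

open Cfsg Cfsg.Agent.H33 Cfsg.Agent.QdInv
open scoped commutatorElement

universe u

/-- a rational element of order `p` in `Z` -/
def Rat' (p : ℕ) {X : Type u} [Group X] (Z : Subgroup X) : Prop :=
  ∃ y ∈ Z, orderOf y = p ∧ ∃ h ∈ Subgroup.normalizer (Z : Set X), ∃ j : ℕ, orderOf (j : ZMod p) = p - 1 ∧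
    h * y * h⁻¹ = y ^ j

section

variable {X : Type u} [Group X] [Finite X] {p : ℕ} [hp : Fact p.Prime]

theorem zj_map {K T : Subgroup X} (hT : IsSyl p T K) :
    (centerThompsonAOf (T.subgroupOf K)).map K.subtype = centerThompsonAOf T := by
  have hmap : (T.subgroupOf K).map K.subtype = T := by
    rw [Subgroup.subgroupOf_map_subtype, inf_eq_left]; exact hT.1
  have hp' : IsPGroup p ↥(T.subgroupOf K) := hT.2.1.comap_of_injective K.subtype K.subtype_injective
  have h1 := H2.inducedFunctor_map (charP_zja (p := p)) K.subtype (T.subgroupOf K) hp' (fun x _ hx => Subtype.ext hx)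
  rw [hmap, induced_zja, induced_zja] at h1
  exact h1.symm

theorem zj_eq {S : Sylow p X} {K T : Subgroup X} (hT : IsSyl p T K) (hST : (S : Subgroup X) ⊓ K ≤ T)
    (hK : ∀ A ∈ ZJ.maxIn (fun A : Subgroup X => IsMulCommutative A) (S : Subgroup X), A ≤ K) :
    centerThompsonAOf T = centerThompsonAOf (S : Subgroup X) := by
  rw [ZJ.centerThompsonAOf_eq, ZJ.centerThompsonAOf_eq]
  obtain ⟨A₀, hA₀⟩ := ZJ.maxIn_nonempty (fun A : Subgroup X => IsMulCommutative A) (by infer_instance) (S : Subgroup X)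
  obtain ⟨c, -, hc⟩ := (isSyl_top S).conj_le (R := T) le_top hT.2.1
  have hle : ∀ A ∈ ZJ.maxIn (fun A : Subgroup X => IsMulCommutative A) (S : Subgroup X), A ≤ T := fun A hA =>
    (le_inf hA.1 (hK A hA)).trans hST
  have hbd : ∀ B : Subgroup X, B ≤ T → IsMulCommutative B → Nat.card B ≤ Nat.card A₀ := by
    intro B hB hBc
    rw [← card_cj c B]
    exact hA₀.2.2 _ ((cj_mono hB).trans hc) (ZJ.comm_conj c B hBc)
  have hcard : ∀ A ∈ ZJ.maxIn (fun A : Subgroup X => IsMulCommutative A) (S : Subgroup X),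
      Nat.card A = Nat.card A₀ := fun A hA =>
    le_antisymm (hA₀.2.2 A hA.1 hA.2.1) (hA.2.2 A₀ hA₀.1 hA₀.2.1)
  have hsub : ZJ.maxIn (fun A : Subgroup X => IsMulCommutative A) (S : Subgroup X) ⊆
      ZJ.maxIn (fun A : Subgroup X => IsMulCommutative A) T := by
    intro A hA
    refine ⟨hle A hA, hA.2.1, fun B hB hBc => ?_⟩
    rw [hcard A hA]; exact hbd B hB hBc
  have hcardT : ∀ A ∈ ZJ.maxIn (fun A : Subgroup X => IsMulCommutative A) T, Nat.card A = Nat.card A₀ := by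
    intro A hA
    exact le_antisymm (hbd A hA.1 hA.2.1) (hA.2.2 A₀ (hle A₀ hA₀) hA₀.2.1)
  have hncard : (ZJ.maxIn (fun A : Subgroup X => IsMulCommutative A) T).ncard ≤
      (ZJ.maxIn (fun A : Subgroup X => IsMulCommutative A) (S : Subgroup X)).ncard := by
    refine Set.ncard_le_ncard_of_injOn (fun A => cj c A) ?_ ?_ (Set.toFinite _)
    · intro A hA
      refine ⟨(cj_mono hA.1).trans hc, ZJ.comm_conj c A hA.2.1, fun B hB hBc => ?_⟩
      rw [card_cj, hcardT A hA]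
      exact hA₀.2.2 B hB hBc
    · intro A _ B _ hAB
      exact cj_inj.1 hAB
  rw [Set.eq_of_subset_of_ncard_le hsub hncard (Set.toFinite _)]

theorem not_dvd_of_order {j : ℕ} (hj : orderOf (j : ZMod p) = p - 1) : ¬ p ∣ j := by
  intro h
  rw [(ZMod.natCast_eq_zero_iff j p).2 h] at hj
  have h2 := hp.out.two_le
  have h3 : (0 : ZMod p) ^ orderOf (0 : ZMod p) = 1 := pow_orderOf_eq_one _
  rw [hj, zero_pow (by omega)] at h3
  exact zero_ne_one h3

theorem Rat'.map {K : Subgroup X} {Z : Subgroup ↥K} (h : Rat' p Z) : Rat' p (Z.map K.subtype) := by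
  obtain ⟨y, hy, hyo, h, hh, j, hj, hyj⟩ := h
  refine ⟨y, ⟨y, hy, rfl⟩, by rw [Subgroup.orderOf_coe]; exact hyo, h, mem_norm_map K.subtype hh, j, hj, ?_⟩
  exact congrArg Subtype.val hyj

end

theorem partB {p : ℕ} [hp : Fact p.Prime] (hp2 : p ≠ 2) : ∀ n : ℕ, ∀ (X : Type u) [Group X] [Finite X],
    Nat.card X ≤ n → ∀ S : Sylow p X,
      Ctl (Subgroup.normalizer ((centerThompsonAOf (S : Subgroup X) : Subgroup X) : Set X)) (S : Subgroup X) ∨
      Rat' p (centerThompsonAOf (S : Subgroup X)) := by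
  intro n
  induction n with
  | zero =>
    intro X _ _ h
    have := Nat.card_pos (α := X)
    omega
  | succ n IH =>
  intro X _ _ hcard S
  by_contra hcon
  push Not at hcon
  obtain ⟨hC, hRat⟩ := hcon
  obtain ⟨Z, hZ⟩ : ∃ Z : Subgroup X, Z = centerThompsonAOf (S : Subgroup X) := ⟨_, rfl⟩
  rw [← hZ] at hC hRat
  have hZeq : Z = sInf (ZJ.maxIn (fun A : Subgroup X => IsMulCommutative A) (S : Subgroup X)) := by
    rw [hZ, ZJ.centerThompsonAOf_eq]
  have hZS : Z ≤ (S : Subgroup X) := by rw [hZ]; exact zj_le _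
  have hSZ : Subgroup.normalizer ((S : Subgroup X) : Set X) ≤ Subgroup.normalizer (Z : Set X) := by
    rw [hZeq]; exact ZJ.normalizer_le_normalizer_sInf ZJ.comm_conj _
  have hZA : ∀ A ∈ ZJ.maxIn (fun A : Subgroup X => IsMulCommutative A) (S : Subgroup X), Z ≤ A := by
    intro A hA
    rw [hZeq]; exact sInf_le hA
  have hZc : ∀ x ∈ Z, ∀ y ∈ Z, x * y = y * x := by
    obtain ⟨A₀, hA₀⟩ := ZJ.maxIn_nonempty (fun A : Subgroup X => IsMulCommutative A) (by infer_instance)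
      (S : Subgroup X)
    intro x hx y hy
    exact comm_iff'.1 hA₀.2.1 x (hZA A₀ hA₀ hx) y (hZA A₀ hA₀ hy)
  -- proper subgroups
  have hCK : ∀ K T : Subgroup X, K ≠ ⊤ → IsSyl p T K → centerThompsonAOf T = Z →
      ∀ A ≤ T, ∀ g ∈ K, cj g A ≤ T → Ct (Subgroup.normalizer (Z : Set X)) A g := by
    intro K T hK hT hTZ
    have hlt : Nat.card K < Nat.card X := by
      rw [← Subgroup.card_top (G := X)]
      exact card_lt_card_of_lt (lt_top_iff_ne_top.2 hK)
    have hm := zj_map hT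
    rw [hTZ] at hm
    rcases IH ↥K (by omega) hT.toSylow with h | h
    · rw [hT.toSylow_coe] at h
      intro A hA g hg hgA
      obtain ⟨m, hm', h1⟩ := h (A.subgroupOf K) (Subgroup.comap_mono hA) ⟨g, hg⟩ (by
        rw [cj_le_iff]
        intro x hx
        exact hgA (conj_mem_cj hx))
      refine ⟨m, ?_, fun a ha => ?_⟩
      · rw [← hm]; exact mem_norm_map K.subtype hm'
      · exact congrArg Subtype.val (h1 ⟨a, hT.1 (hA ha)⟩ ha)
    · exfalso
      rw [hT.toSylow_coe] at h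
      have := h.map
      rw [hm] at this
      exact hRat this
  have hCTL : ∀ Z₀ ≤ Z, Z₀ ≠ ⊥ → Subgroup.normalizer (Z₀ : Set X) ≠ ⊤ → ∀ A ≤ (S : Subgroup X),
      A ≤ Subgroup.normalizer (Z₀ : Set X) → ∀ g ∈ Subgroup.normalizer (Z₀ : Set X),
      g ∈ Subgroup.normalizer (A : Set X) → Ct (Subgroup.normalizer (Z : Set X)) A g := by
    intro Z₀ hZ₀ _ hn A hA hAN g hg hgA
    obtain ⟨T, hST, hT⟩ := IsSyl.exists_of_le (p := p) (H := Subgroup.normalizer (Z₀ : Set X))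
      (R := (S : Subgroup X) ⊓ Subgroup.normalizer (Z₀ : Set X)) inf_le_right (isPGroup_sub S.2 inf_le_left)
    have hAT : A ≤ T := (le_inf hA hAN).trans hST
    refine hCK _ T hn hT ?_ A hAT g hg (by rw [mem_norm_iff.1 hgA]; exact hAT)
    rw [hZ]
    apply zj_eq hT hST
    intro A hA
    intro a ha
    rw [mem_norm_iff]
    apply cj_eq_of_fix
    intro x hx
    have := comm_iff'.1 hA.2.1 a ha x (hZA A hA (hZ₀ hx))
    rw [this]; group
  -- a bad subgroup
  obtain ⟨U, hU, hUs, hbadU, hnb⟩ := exists_bad S hSZ hC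
  have hcf : Cf S Z U := ⟨hZS, hZc, hSZ, hU, hUs, hbadU, hnb⟩
  obtain ⟨B, hBU, hYB, hbad, hmin⟩ := hcf.exists_B
  obtain ⟨hB0, hB0c⟩ := hcf.B0 hBU hYB hbad hmin
  obtain ⟨y₀, hy₀, hy₀b⟩ := hbadU
  haveI hn : (⁅B, U⁆ : Subgroup X).Normal := by
    rw [← Subgroup.normalizer_eq_top_iff]
    by_contra hnt
    apply hy₀b
    have hYn : Subgroup.normalizer (U : Set X) ≤ Subgroup.normalizer ((⁅B, U⁆ : Subgroup X) : Set X) :=
      fun y hy => Cf.norm_comm (hYB hy) hy
    refine hCTL ⁅B, U⁆ (hB0.trans inf_le_right) ?_ hnt U hU (Subgroup.le_normalizer.trans hYn) y₀ (hYn hy₀) hy₀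
    intro h0
    rw [h0] at hnt
    exact hnt (Subgroup.normalizer_eq_top (⊥ : Subgroup X))
  obtain ⟨a₀, ha₀R, ha₀U, ha₀⟩ := hcf.exists_quad hp2 hBU hYB hbad hmin hZeq (by
    intro hS
    by_contra hnt
    apply hy₀b
    refine hCK _ (S : Subgroup X) hnt ((isSyl_top S).mono hS le_top) hZ.symm U hU y₀ hy₀ ?_
    rw [mem_norm_iff.1 hy₀]; exact hU)
  obtain ⟨h, hh, z', hz', hh', x, hx, hx', hxp, j, hj, hxj⟩ := hcf.exists_EV hp2 hBU hYB hbad hmin ha₀R ha₀U ha₀
  obtain ⟨y, hy, hyo, h', hh'z, j', hj', hyj⟩ := exists_eigen (p := p) (z := B ⊓ Z) (z' := z')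
    (isPGroup_sub hcf.Up (inf_le_left.trans hBU)) (fun a ha b hb => hZc a ha.2 b hb.2) hz' hh hh' hx hx' hxp
    (not_dvd_of_order hj) hxj
  have hnt : Subgroup.normalizer ((B ⊓ Z : Subgroup X) : Set X) ≠ ⊤ := by
    intro h1
    apply hbad
    rw [h1]; exact le_top
  have hne : (B ⊓ Z : Subgroup X) ≠ ⊥ := by
    intro h1
    rw [h1] at hnt
    exact hnt (Subgroup.normalizer_eq_top (⊥ : Subgroup X))
  have hh'N : h' ∈ Subgroup.normalizer ((B ⊓ Z : Subgroup X) : Set X) := (Subgroup.zpowers_le.2 hh) hh'z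
  obtain ⟨m, hm, h1⟩ := hCTL (B ⊓ Z) inf_le_right hne hnt (B ⊓ Z) (inf_le_right.trans hZS)
    Subgroup.le_normalizer h' hh'N hh'N
  apply hRat
  refine ⟨y, hy.2, hyo, m, hm, j', by rw [hj']; exact hj, ?_⟩
  rw [← h1 y hy]; exact hyj

end Cfsg.Agent.ZJFail
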